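import Mathlib

/-! Highest roots: pairings with the highest coroot (S17471). -/

namespace Groth.Agent.Helper7.RootCh

open RootPairing

variable {ι R M N : Type*} [Field R] [LinearOrder R] [IsStrictOrderedRing R]
  [AddCommGroup M] [Module R M] [AddCommGroup N] [Module R N]
  (P : RootPairing ι R M N)

theorem height_neg_of_root_eq_neg (b : P.Base) {i j : ι} (h : P.root i = -P.root j) :
    b.height i = - b.height j := by
  have : i = P.reflectionPerm j j := P.root_eq_neg_iff.mp h
  rw [this]
  exact b.height_reflectionPerm_self j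

variable [Finite ι] [P.IsCrystallographic]

theorem pairingIn_nonneg_of_isPos (b : P.Base) (θ : ι) (hθ : b.IsPos θ)
    (hmax : ∀ i, b.IsPos i → P.root θ + P.root i ∉ Set.range P.root) (i : ι) (hi : b.IsPos i) :
    0 ≤ P.pairingIn ℤ i θ := by
  by_contra hneg
  rw [not_le] at hneg
  have hne : P.root i ≠ -P.root θ := by
    intro h
    have := height_neg_of_root_eq_neg P b h
    rw [b.isPos_iff] at hi hθ
    omega
  have := P.root_add_root_mem_of_pairingIn_neg hneg hne
  rw [add_comm] at this
  exact hmax i hi this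

theorem pairingIn_le_one_of_isPos (b : P.Base) (θ : ι) (hθ : b.IsPos θ)
    (hmax : ∀ i, b.IsPos i → P.root θ + P.root i ∉ Set.range P.root) (i : ι) (hi : b.IsPos i)
    (hne : i ≠ θ) : P.pairingIn ℤ i θ ≤ 1 := by
  by_contra hgt
  rw [not_le] at hgt
  obtain ⟨k, hk⟩ := P.root_sub_root_mem_of_pairingIn_pos
    (by omega : 0 < P.pairingIn ℤ i θ) hne
  have hknotpos : ¬ b.IsPos k := by
    intro hkpos
    apply hmax k hkpos
    rw [hk]
    exact ⟨i, by abel⟩
  obtain ⟨j, hj⟩ := P.neg_root_mem k
  have hjpos : b.IsPos j := by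
    have h1 := height_neg_of_root_eq_neg P b hj
    have h2 := b.height_ne_zero k
    rw [b.isPos_iff] at hknotpos ⊢
    omega
  have hkθ : P.root k - P.root θ ∈ Set.range P.root := by
    have hpk : P.pairingIn ℤ k θ = P.pairingIn ℤ i θ - 2 := by
      have h1 : P.root i = P.root k + P.root θ := by rw [hk]; abel
      have h2 := pairingIn_eq_add_of_root_eq_add (S := ℤ) (j := θ) h1
      rw [P.pairingIn_same] at h2
      omega
    rcases (by omega : P.pairingIn ℤ k θ = 0 ∨ 0 < P.pairingIn ℤ k θ) with h0 | hpos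
    · have hp2 : P.pairing i θ = 2 := by
        rw [← P.algebraMap_pairingIn ℤ, show P.pairingIn ℤ i θ = 2 by omega]
        simp
      refine ⟨P.reflectionPerm θ i, ?_⟩
      rw [P.root_reflectionPerm, P.reflection_apply_root, hp2, hk, two_smul]
      abel
    · have hkne : k ≠ θ := by
        rintro rfl
        exact hknotpos hθ
      exact P.root_sub_root_mem_of_pairingIn_pos hpos hkne
  apply hmax j hjpos
  rw [hj]
  have : P.root θ + -P.root k = -(P.root k - P.root θ) := by abel
  rw [this, P.neg_mem_range_root_iff]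
  exact hkθ

theorem sum_pairing_sq [Fintype ι] (b : P.Base) (θ : ι) (hθ : b.IsPos θ)
    (hmax : ∀ i, b.IsPos i → P.root θ + P.root i ∉ Set.range P.root) :
    ∑ i ∈ Finset.univ.filter (fun i => 0 < b.height i), P.pairing i θ ^ 2 =
      2 + ∑ i ∈ Finset.univ.filter (fun i => 0 < b.height i), P.pairing i θ := by
  classical
  set s := Finset.univ.filter (fun i => 0 < b.height i) with hs
  have hθs : θ ∈ s := by
    rw [hs, Finset.mem_filter]
    exact ⟨Finset.mem_univ _, hθ⟩
  rw [← Finset.add_sum_erase s _ hθs, ← Finset.add_sum_erase s (fun i => P.pairing i θ) hθs]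
  have hpt : ∀ i ∈ s.erase θ, P.pairing i θ ^ 2 = P.pairing i θ := by
    intro i hi
    rw [Finset.mem_erase, hs, Finset.mem_filter] at hi
    have h1 := pairingIn_nonneg_of_isPos P b θ hθ hmax i hi.2.2
    have h2 := pairingIn_le_one_of_isPos P b θ hθ hmax i hi.2.2 hi.1
    rw [← P.algebraMap_pairingIn ℤ]
    rcases (by omega : P.pairingIn ℤ i θ = 0 ∨ P.pairingIn ℤ i θ = 1) with h | h <;>
      rw [h] <;> simp
  rw [Finset.sum_congr rfl hpt, P.pairing_same]
  ring

end Groth.Agent.Helper7.RootCh
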